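import Cfsg.Agent.SuzukiComp83.Model
import Cfsg.Agent.OddCons.LayerSimple
import Cfsg.Agent.FStar.SelfCentralizing
import Cfsg.Agent.Coprime.Glauberman
import Cfsg.Agent.LocalCharP.NoComponent
import Cfsg.Agent.SuzukiAut.OddSylow
import Cfsg.Agent.Schur.StemSylow
import Cfsg.Agent.Suzuki.LieModel
import Cfsg.Prelude.Def_Sz

/-!
Components of order prime to three in a group with an element of order three whose centraliser is solvable.
-/

set_option autoImplicit false
set_option linter.style.haveILetI false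

namespace CfsgLib.SuzukiComp83

universe u

variable {G : Type u} [Group G] [Finite G] {K : Subgroup G}

omit [Finite G] in
theorem not_isSolvable_quotient (hK : Cfsg.IsComponent K) :
    ¬ Group.IsSolvable (↥K ⧸ Subgroup.center ↥K) := fun h => by
  haveI := hK.2.2
  haveI : Group.IsPerfect ↥K := hK.2.1
  have h1 : commutator ↥K ≤ Subgroup.center ↥K := by
    rw [commutator_def, Subgroup.commutator_le]
    intro x _ y _
    rw [← QuotientGroup.eq_one_iff, ← QuotientGroup.mk'_apply, map_commutatorElement,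
      commutatorElement_eq_one_iff_mul_comm]
    exact (IsSimpleGroup.comm_iff_isSolvable.2 h) _ _
  rw [Group.IsPerfect.commutator_eq_top, top_le_iff] at h1
  exact not_subsingleton (↥K ⧸ Subgroup.center ↥K) (QuotientGroup.subsingleton_iff.2 h1)

/-- An element of order three with solvable centraliser normalises every component. -/
theorem mem_normalizer_component (hK : Cfsg.IsComponent K) {y : G} (hy : orderOf y = 3)
    (hsol : Group.IsSolvable ↥(Subgroup.centralizer ({y} : Set G))) :
    y ∈ Subgroup.normalizer (K : Set G) := by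
  by_contra hn
  have hy3 : y * y * y = 1 := by rw [mul_assoc, ← pow_three, ← hy, pow_orderOf_eq_one]
  set K1 := K.map (MulAut.conj y).toMonoidHom with hK1
  set K2 := K.map (MulAut.conj (y * y)).toMonoidHom with hK2
  have hc : ∀ g : G, Cfsg.IsComponent (K.map (MulAut.conj g).toMonoidHom) := fun g =>
    CfsgLib.FStar.isComponent_map (MulAut.conj g) hK
  have hmem : ∀ (g : G), K.map (MulAut.conj g).toMonoidHom = K → g ∈ Subgroup.normalizer (K : Set G) := by
    intro g hg
    rw [Subgroup.mem_normalizer_iff]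
    intro x
    conv_rhs => rw [← hg]
    exact ⟨fun hx => ⟨x, hx, rfl⟩, fun ⟨z, hz, e⟩ => (MulAut.conj g).injective e ▸ hz⟩
  have hne1 : K1 ≠ K := fun h => hn (hmem y h)
  have hne2 : K2 ≠ K := fun h => hn (by
    have := mul_mem (hmem _ h) (hmem _ h)
    rwa [show y * y * (y * y) = y * y * y * y by group, hy3, one_mul] at this)
  have hne12 : K1 ≠ K2 := fun h => hn (hmem y (by
    have := congrArg (Subgroup.map (MulAut.conj y⁻¹).toMonoidHom) h
    rw [hK1, hK2, Subgroup.map_map, Subgroup.map_map] at this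
    have e1 : (MulAut.conj y⁻¹).toMonoidHom.comp (MulAut.conj y).toMonoidHom = MonoidHom.id G := by
      ext x; simp [mul_assoc]
    have e2 : (MulAut.conj y⁻¹).toMonoidHom.comp (MulAut.conj (y * y)).toMonoidHom =
        (MulAut.conj y).toMonoidHom := by
      ext x; simp [mul_assoc]
    rw [e1, e2, Subgroup.map_id] at this
    exact this.symm))
  have c1 : ∀ a ∈ K, ∀ b ∈ K1, Commute a b := fun a ha b hb =>
    OddCons.LayerSimple.commute_of_ne hK (hc y) (Ne.symm hne1) ha hb
  have c2 : ∀ a ∈ K, ∀ b ∈ K2, Commute a b := fun a ha b hb =>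
    OddCons.LayerSimple.commute_of_ne hK (hc (y * y)) (Ne.symm hne2) ha hb
  have c12 : ∀ a ∈ K1, ∀ b ∈ K2, Commute a b := fun a ha b hb =>
    OddCons.LayerSimple.commute_of_ne (hc y) (hc (y * y)) hne12 ha hb
  have m1 : ∀ k : K, y * (k : G) * y⁻¹ ∈ K1 := fun k => ⟨k, k.2, rfl⟩
  have m2 : ∀ k : K, y * y * (k : G) * (y * y)⁻¹ ∈ K2 := fun k => ⟨k, k.2, rfl⟩
  let f : ↥K →* G := MonoidHom.mk' (fun k => (k : G) * (y * k * y⁻¹) * (y * y * k * (y * y)⁻¹)) (by
    intro a b
    have e1 := (c1 b b.2 _ (m1 a)).eq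
    have e2 := (c2 b b.2 _ (m2 a)).eq
    have e3 := (c12 _ (m1 b) _ (m2 a)).eq
    have s1 : y * ((a : G) * b) * y⁻¹ = (y * a * y⁻¹) * (y * b * y⁻¹) := by group
    have s2 : y * y * ((a : G) * b) * (y * y)⁻¹ = (y * y * a * (y * y)⁻¹) * (y * y * b * (y * y)⁻¹) := by group
    show ((a * b : K) : G) * _ * _ = _
    rw [Subgroup.coe_mul, s1, s2]
    generalize y * (a : G) * y⁻¹ = A1 at *
    generalize y * (b : G) * y⁻¹ = B1 at *
    generalize y * y * (a : G) * (y * y)⁻¹ = A2 at *
    generalize y * y * (b : G) * (y * y)⁻¹ = B2 at *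
    calc (a : G) * b * (A1 * B1) * (A2 * B2) = a * ((b : G) * A1) * (B1 * A2) * B2 := by group
      _ = a * (A1 * b) * (A2 * B1) * B2 := by rw [e1, e3]
      _ = a * A1 * ((b : G) * A2) * B1 * B2 := by group
      _ = a * A1 * (A2 * b) * B1 * B2 := by rw [e2]
      _ = _ := by group)
  have hrange : f.range ≤ Subgroup.centralizer ({y} : Set G) := by
    rintro _ ⟨k, rfl⟩
    rw [Subgroup.mem_centralizer_singleton_iff]
    show (k : G) * (y * k * y⁻¹) * (y * y * k * (y * y)⁻¹) * y =
      y * ((k : G) * (y * k * y⁻¹) * (y * y * k * (y * y)⁻¹))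
    have a1 := (c1 k k.2 _ (m1 k)).eq
    have a2 := (c2 k k.2 _ (m2 k)).eq
    have s3 : y * (y * y * (k : G) * (y * y)⁻¹) * y⁻¹ = k := by
      rw [show y * (y * y * (k : G) * (y * y)⁻¹) * y⁻¹ = y * y * y * k * (y * y * y)⁻¹ by group, hy3]
      group
    symm
    rw [← mul_inv_eq_iff_eq_mul]
    calc y * ((k : G) * (y * k * y⁻¹) * (y * y * k * (y * y)⁻¹)) * y⁻¹
        = (y * k * y⁻¹) * (y * y * k * (y * y)⁻¹) * (y * (y * y * (k : G) * (y * y)⁻¹) * y⁻¹) := by group
      _ = (y * k * y⁻¹) * (y * y * k * (y * y)⁻¹) * k := by rw [s3]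
      _ = (y * k * y⁻¹) * ((k : G) * (y * y * k * (y * y)⁻¹)) := by rw [mul_assoc, a2]
      _ = _ := by rw [← mul_assoc, ← a1]
  have hker : f.ker ≤ Subgroup.center ↥K := by
    intro k hk
    have hk1 : (k : G) * (y * k * y⁻¹) * (y * y * k * (y * y)⁻¹) = 1 := hk
    rw [mul_assoc, mul_eq_one_iff_eq_inv] at hk1
    rw [Subgroup.mem_center_iff]
    intro x
    apply Subtype.ext
    rw [Subgroup.coe_mul, Subgroup.coe_mul, hk1]
    exact (Commute.inv_right ((c1 x x.2 _ (m1 k)).mul_right (c2 x x.2 _ (m2 k)))).eq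
  haveI : Group.IsSolvable ↥f.range :=
    Group.isSolvable_of_isSolvable_injective (Subgroup.inclusion_injective hrange)
  haveI : Group.IsSolvable ↥f.ker := Group.isSolvable_of_comm fun a b =>
    Subtype.ext (Subgroup.mem_center_iff.1 (hker b.2) a.1)
  haveI : Group.IsSolvable ↥K :=
    Group.isSolvable_of_ker_le_range f.ker.subtype f.rangeRestrict (by simp)
  exact not_isSolvable_quotient hK inferInstance

/-- The statement of the component theorem, given the simple groups of order prime to three. -/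
theorem component_suzuki_eight
    (hsz : ∀ (S : Type u) [Group S] [Finite S] [IsSimpleGroup S], (∃ a b : S, a * b ≠ b * a) →
      ¬ 3 ∣ Nat.card S → Cfsg.Lie.IsoSuzuki S)
    (hK : Cfsg.IsComponent K) (h3 : ¬ 3 ∣ Nat.card ↥K) (y : G) (hy : orderOf y = 3)
    (hsol : Group.IsSolvable ↥(Subgroup.centralizer ({y} : Set G))) :
    (∃ (F : Type) (_ : Field F) (_ : Fintype F), Fintype.card F = 8 ∧
        Nonempty (↥K ⧸ Subgroup.center ↥K ≃* ↥(Cfsg.Lie.Sz F 4))) ∧
      y ∈ Subgroup.normalizer (K : Set G) ∧ (Cfsg.pCore 2 G = ⊥ → IsSimpleGroup ↥K) := by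
  haveI : Fact (Nat.Prime 3) := ⟨Nat.prime_three⟩
  haveI := hK.2.2
  have hnorm := mem_normalizer_component hK hy hsol
  have hab : ∃ a b : ↥K ⧸ Subgroup.center ↥K, a * b ≠ b * a := by
    by_contra hno
    simp only [not_exists, not_not] at hno
    exact not_isSolvable_quotient hK (Group.isSolvable_of_comm hno)
  obtain ⟨F, hF1, hF2, m, hm, hF, ⟨e0⟩⟩ := hsz _ hab
    (fun h => h3 (h.trans (Subgroup.card_quotient_dvd_card _)))
  haveI := CfsgLib.Suzuki.charP_two hF
  let e : ↥K ⧸ Subgroup.center ↥K ≃* CfsgLib.Suzuki.grp (CfsgLib.Suzuki.theta F m) :=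
    (e0.trans (CfsgLib.Suzuki.lieSzEquiv hm hF).symm).trans
      (MulEquiv.subgroupCongr (CfsgLib.Suzuki.sz_eq (F := F) (m := m)))
  -- the action of `y`
  let α : MulAut ↥K :=
    { toFun := fun k => ⟨y * k * y⁻¹, (Subgroup.mem_normalizer_iff.1 hnorm _).1 k.2⟩
      invFun := fun k => ⟨y⁻¹ * k * y, by
        have := (Subgroup.mem_normalizer_iff.1 (inv_mem hnorm) _).1 k.2
        simpa using this⟩
      left_inv := fun k => Subtype.ext (by simp [mul_assoc])
      right_inv := fun k => Subtype.ext (by simp [mul_assoc])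
      map_mul' := fun a b => Subtype.ext (by simp [mul_assoc]) }
  let αq : MulAut (↥K ⧸ Subgroup.center ↥K) :=
    QuotientGroup.congr (Subgroup.center ↥K) (Subgroup.center ↥K) α
      (Subgroup.characteristic_iff_map_eq.1 inferInstance α)
  have hαq : ∀ k : ↥K, αq (QuotientGroup.mk k) = QuotientGroup.mk (α k) := fun k => rfl
  let φ : MulAut (CfsgLib.Suzuki.grp (CfsgLib.Suzuki.theta F m)) := (e.symm.trans αq).trans e
  have hy3 : y * y * y = 1 := by rw [mul_assoc, ← pow_three, ← hy, pow_orderOf_eq_one]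
  have hφ : φ ^ 3 = 1 := by
    ext1 x
    show φ (φ (φ x)) = x
    simp only [φ, MulEquiv.trans_apply, MulEquiv.symm_apply_apply]
    obtain ⟨k, hk⟩ := QuotientGroup.mk_surjective (e.symm x)
    rw [← hk, hαq, hαq, hαq]
    have h1 : α (α (α k)) = k := Subtype.ext (by
      show y * (y * (y * (k : G) * y⁻¹) * y⁻¹) * y⁻¹ = k
      rw [show y * (y * (y * (k : G) * y⁻¹) * y⁻¹) * y⁻¹ = y * y * y * k * (y * y * y)⁻¹ by group, hy3]
      group)
    rw [h1, hk, MulEquiv.apply_symm_apply]
  set Z := (Subgroup.center ↥K).map K.subtype with hZ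
  set A := Subgroup.zpowers y
  have hA : IsPGroup 3 A := IsPGroup.of_card (n := 1) (by rw [Nat.card_zpowers, hy, pow_one])
  have hchar : (Subgroup.center ↥K).map α.toMonoidHom = Subgroup.center ↥K :=
    Subgroup.characteristic_iff_map_eq.1 inferInstance α
  have hZn : y ∈ Subgroup.normalizer (Z : Set G) := by
    rw [Subgroup.mem_normalizer_iff]
    intro x
    constructor
    · rintro ⟨k, hk, rfl⟩
      exact ⟨α k, hchar.le ⟨k, hk, rfl⟩, rfl⟩
    · rintro ⟨k, hk, hk2⟩
      rw [← hchar] at hk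
      obtain ⟨j, hj, rfl⟩ := hk
      exact ⟨j, hj, mul_left_cancel (mul_right_cancel hk2)⟩
  have hAZ : A ≤ Subgroup.normalizer (Z : Set G) := Subgroup.zpowers_le.mpr hZn
  have hZ3 : ¬ 3 ∣ Nat.card Z := fun h => h3 (h.trans (Subgroup.card_dvd_of_le (Subgroup.map_subtype_le _)))
  have hm1 : m = 1 := by
    refine eq_one_of_fixed hm hF φ hφ fun S hS => ?_
    let p : ↥K →* CfsgLib.Suzuki.grp (CfsgLib.Suzuki.theta F m) :=
      e.toMonoidHom.comp (QuotientGroup.mk' _)
    have hle : S ≤ ((Subgroup.centralizer ({y} : Set G)).subgroupOf K).map p := by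
      intro s hs
      obtain ⟨k, hk⟩ := QuotientGroup.mk_surjective (e.symm s)
      have h1 : αq (QuotientGroup.mk k) = QuotientGroup.mk k := by
        apply e.injective
        rw [hk]
        simpa [φ] using hS s hs
      rw [hαq, QuotientGroup.eq] at h1
      have hbase : (k : G)⁻¹ * (y * k * y⁻¹) ∈ Z :=
        ⟨_, inv_mem h1, by simp [mul_assoc, α]⟩
      have hcond : ∀ a ∈ A, (k : G)⁻¹ * (a * k * a⁻¹) ∈ Z := by
        intro a ha
        obtain ⟨n, rfl⟩ := (isOfFinOrder_of_finite y).mem_powers_iff_mem_zpowers.mpr ha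
        induction n with
        | zero => simp [Z.one_mem]
        | succ n ih =>
          have h2 := (Subgroup.mem_normalizer_iff.1 hZn _).1 (ih ⟨n, by simp⟩)
          have := Z.mul_mem hbase h2
          convert this using 1
          simp only [pow_succ', mul_inv_rev]
          group
      obtain ⟨z, hz, hzc⟩ := CfsgLib.Coprime.exists_fixed_coset_of_isPGroup hA hZ3 hAZ hcond
      obtain ⟨z', hz', rfl⟩ := hz
      refine ⟨k * z', ?_, ?_⟩
      · show ((k * z' : K) : G) ∈ Subgroup.centralizer ({y} : Set G)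
        rw [Subgroup.coe_mul, Subgroup.mem_centralizer_singleton_iff]
        exact (Subgroup.mem_centralizer_iff.1 hzc y (Subgroup.mem_zpowers y)).symm
      · show e (QuotientGroup.mk (k * z')) = s
        rw [QuotientGroup.mk_mul_of_mem k hz', hk, MulEquiv.apply_symm_apply]
    haveI : Group.IsSolvable ↥((Subgroup.centralizer ({y} : Set G)).subgroupOf K) :=
      Group.isSolvable_of_isSolvable_injective
        (f := K.subtype.subgroupComap (Subgroup.centralizer ({y} : Set G)))
        fun a b h => Subtype.ext (Subtype.ext ((congrArg Subtype.val h :)))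
    haveI : Group.IsSolvable ↥(((Subgroup.centralizer ({y} : Set G)).subgroupOf K).map p) :=
      Group.isSolvable_of_surjective (p.subgroupMap_surjective _)
    exact Group.isSolvable_of_isSolvable_injective (Subgroup.inclusion_injective hle)
  subst hm1
  refine ⟨⟨F, hF1, hF2, by rw [hF]; norm_num, ⟨e0⟩⟩, hnorm, fun hO => ?_⟩
  have hstem : Cfsg.IsStemExtension (e.toMonoidHom.comp (QuotientGroup.mk' (Subgroup.center ↥K))) := by
    have hker : (e.toMonoidHom.comp (QuotientGroup.mk' (Subgroup.center ↥K))).ker = Subgroup.center ↥K := by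
      ext x
      simp
    haveI : Group.IsPerfect ↥K := hK.2.1
    refine ⟨e.surjective.comp (QuotientGroup.mk'_surjective _), hker.le, ?_⟩
    rw [Group.IsPerfect.commutator_eq_top]; exact le_top
  have hker : (e.toMonoidHom.comp (QuotientGroup.mk' (Subgroup.center ↥K))).ker = Subgroup.center ↥K := by
    ext x
    simp
  haveI : Fact (Nat.Prime 2) := ⟨Nat.prime_two⟩
  have hZ2 : IsPGroup 2 (Subgroup.center ↥K) := by
    refine IsPGroup.of_card (Nat.eq_prime_pow_of_unique_prime_dvd Nat.card_pos.ne' fun {p} hp hd => ?_)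
    by_contra hp2
    haveI := Fact.mk hp
    obtain ⟨H, hH, hidx⟩ := CfsgLib.SuzukiAut.exists_cyclic_index_not_dvd
      (CfsgLib.Suzuki.titsEndo_theta hm hF) hp2
    haveI := hH
    exact CfsgLib.Schur.not_dvd_card_ker_of_isCyclic hstem H hidx (by rw [hker]; exact hd)
  have hZsub : Z.IsSubnormal := CfsgLib.NoComponent.isSubnormal_of_normal_in hK.1 (Subgroup.map_subtype_le _) (by
    rintro b hb _ ⟨k, hk, rfl⟩
    exact ⟨k, hk, by
      have := congrArg Subtype.val (Subgroup.mem_center_iff.1 hk ⟨b, hb⟩)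
      simp only [Subgroup.coe_mul] at this
      rw [Subgroup.coe_subtype, this, mul_inv_cancel_right]⟩)
  have hle := CfsgLib.LocalCharP.le_pCore_of_isSubnormal hZsub (hZ2.map K.subtype)
  rw [hO, le_bot_iff, hZ, Subgroup.map_eq_bot_iff_of_injective _ K.subtype_injective] at hle
  let e2 : ↥K ≃* ↥K ⧸ Subgroup.center ↥K :=
    (QuotientGroup.quotientBot.symm).trans (QuotientGroup.quotientMulEquivOfEq hle.symm)
  exact e2.isSimpleGroup

end CfsgLib.SuzukiComp83
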