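import Cfsg.Agent.SuzukiAut.Out
import Cfsg.Agent.Suzuki.Classification
import Cfsg.Agent.CITThreePrime.PrimeGraph
import Mathlib.GroupTheory.Perm.Cycle.Type

/-!
An automorphism of order dividing three of a Suzuki group has solvable fixed points only for `q = 8`.
-/

set_option autoImplicit false
set_option linter.style.haveILetI false

namespace CfsgLib.SuzukiComp83

open CfsgLib.Suzuki CfsgLib.SuzukiAut

variable {F : Type*} [Field F] [Fintype F] [CharP F 2] {m : ℕ}

theorem eight_dvd_card (hm : 1 ≤ m) (hF : Fintype.card F = 2 ^ (2 * m + 1)) :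
    8 ∣ Nat.card (grp (theta F m)) := by
  rw [CITThreePrime.card_model hm hF]
  refine (Dvd.dvd.trans ?_ (dvd_pow_self _ two_ne_zero)).mul_right _ |>.mul_right _
  exact (by norm_num : (8:ℕ) = 2 ^ 3) ▸ pow_dvd_pow 2 (by omega)

theorem three_not_dvd_card (hm : 1 ≤ m) (hF : Fintype.card F = 2 ^ (2 * m + 1)) :
    ¬ 3 ∣ Nat.card (grp (theta F m)) := by
  have h : ∀ j : ℕ, 2 ^ (2 * j + 1) % 3 = 2 := by
    intro j
    induction j with
    | zero => norm_num
    | succ j ih => rw [show 2 * (j + 1) + 1 = 2 * j + 1 + 2 by ring, pow_add]; omega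
  have h1 := h m
  have h2 : 1 ≤ 2 ^ (2 * m + 1) := Nat.one_le_two_pow
  rw [CITThreePrime.card_model hm hF]
  intro hd
  rcases Nat.prime_three.dvd_mul.1 hd with hd | hd
  · rcases Nat.prime_three.dvd_mul.1 hd with hd | hd
    · have := Nat.prime_three.dvd_of_dvd_pow hd
      omega
    · rw [Nat.dvd_iff_mod_eq_zero, Nat.add_mod, Nat.pow_mod, h1] at hd
      norm_num at hd
  · omega

theorem not_isSolvable_grp (hm : 1 ≤ m) (hF : Fintype.card F = 2 ^ (2 * m + 1)) :
    ¬ Group.IsSolvable (grp (theta F m)) := fun h => by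
  haveI := CfsgLib.Suzuki.isSimpleGroup (titsEndo_theta hm hF)
  letI : CommGroup (grp (theta F m)) :=
    { (inferInstance : Group (grp (theta F m))) with mul_comm := IsSimpleGroup.comm_iff_isSolvable.mpr h }
  have hp : (Nat.card (grp (theta F m))).Prime := IsSimpleGroup.prime_card
  have := (Nat.prime_dvd_prime_iff_eq Nat.prime_two hp).1 ((by norm_num : 2 ∣ 8).trans (eight_dvd_card hm hF))
  have h8 := eight_dvd_card hm hF
  rw [← this] at h8
  norm_num at h8

theorem hall (σ : F ≃+* F) (x : F) : σ (theta F m x) = theta F m (σ x) := by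
  rw [theta_apply, theta_apply, map_pow]

theorem mul_conj {G : Type*} [Group G] (ψ : MulAut G) (g : G) :
    ψ * MulAut.conj g = MulAut.conj (ψ g) * ψ := by
  ext x
  simp [MulAut.conj_apply]

theorem fieldAut_mul (hT : TitsEndo (theta F m)) (σ τ : F ≃+* F) :
    fieldAut hT σ (hall σ) * fieldAut hT τ (hall τ) = fieldAut hT (τ.trans σ) (hall _) := by
  refine MulEquiv.ext fun x => Subtype.ext (Subtype.ext ?_)
  ext i j
  simp [fieldAut]

/-- The fixed points of an automorphism of order dividing three. -/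
theorem eq_one_of_fixed (hm : 1 ≤ m) (hF : Fintype.card F = 2 ^ (2 * m + 1))
    (φ : MulAut (grp (theta F m))) (hφ : φ ^ 3 = 1)
    (hsol : ∀ S : Subgroup (grp (theta F m)), (∀ x ∈ S, φ x = x) → Group.IsSolvable S) : m = 1 := by
  set hT := titsEndo_theta hm hF
  haveI := CfsgLib.Suzuki.isSimpleGroup hT
  haveI : Fact (Nat.Prime 3) := ⟨Nat.prime_three⟩
  obtain ⟨g, σ, hdec⟩ := exists_decomposition hT (hall (m := m)) φ
  set a := fieldAut hT σ (hall σ) with ha
  rw [hdec] at hφ hsol
  have hcube : MulAut.conj (g * a g * a (a g)) * (a * a * a) = 1 := by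
    rw [← hφ, pow_three, map_mul, map_mul]
    have h1 := mul_conj a g
    have h2 := mul_conj a (a g)
    calc MulAut.conj g * MulAut.conj (a g) * MulAut.conj (a (a g)) * (a * a * a)
        = MulAut.conj g * MulAut.conj (a g) * (MulAut.conj (a (a g)) * a) * (a * a) := by group
      _ = MulAut.conj g * MulAut.conj (a g) * (a * MulAut.conj (a g)) * (a * a) := by rw [h2]
      _ = MulAut.conj g * (MulAut.conj (a g) * a) * (MulAut.conj (a g) * a) * a := by group
      _ = MulAut.conj g * (a * MulAut.conj g) * (a * MulAut.conj g) * a := by rw [h1]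
      _ = _ := by group
  have haaa : a * a * a = fieldAut hT (σ.trans (σ.trans σ)) (hall _) := by
    rw [ha, fieldAut_mul, fieldAut_mul]
  have hσ3 : σ.trans (σ.trans σ) = RingEquiv.refl F := by
    refine eq_refl_of_fieldAut_eq_conj hT (hall _) (g := (g * a g * a (a g))⁻¹) ?_
    rw [← haaa, map_inv]
    exact eq_inv_of_mul_eq_one_right hcube
  have ha3 : a * a * a = 1 := by
    rw [haaa]
    refine MulEquiv.ext fun x => Subtype.ext (Subtype.ext ?_)
    ext i j
    simp [fieldAut, hσ3]
  have hg3 : g * a g * a (a g) = 1 := by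
    rw [ha3, mul_one] at hcube
    by_contra hne
    have hz : g * a g * a (a g) ∈ Subgroup.center (grp (theta F m)) := Subgroup.mem_center_iff.mpr fun x => by
      have h := DFunLike.congr_fun hcube x
      simp only [MulAut.conj_apply, MulAut.one_apply] at h
      exact (mul_inv_eq_iff_eq_mul.mp h).symm
    rcases (inferInstance : IsSimpleGroup (grp (theta F m))).eq_bot_or_eq_top_of_normal (Subgroup.center (grp (theta F m)))
      inferInstance with h | h
    · rw [h, Subgroup.mem_bot] at hz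
      exact hne hz
    · exact not_isSolvable_grp hm hF (Group.isSolvable_of_comm fun x y =>
        (Subgroup.mem_center_iff.mp (h ▸ Subgroup.mem_top y) x))
  -- a fixed point of the twisted action
  obtain ⟨h, hh⟩ : ∃ h : (grp (theta F m)), g * a h = h := by
    classical
    let π : Equiv.Perm (grp (theta F m)) := a.toEquiv.trans (Equiv.mulLeft g)
    letI : Fintype (grp (theta F m)) := Fintype.ofFinite _
    have hπ : π ^ 3 ^ 1 = 1 := by
      ext1 x
      have h1 : a (a (a x)) = x := DFunLike.congr_fun ha3 x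
      show g * a (g * a (g * a x)) = x
      rw [map_mul, map_mul, map_mul, h1, ← mul_assoc, ← mul_assoc, hg3, one_mul]
    obtain ⟨x, hx⟩ := Equiv.Perm.exists_fixed_point_of_prime (p := 3) (n := 1)
      (by rw [← Nat.card_eq_fintype_card]; exact three_not_dvd_card hm hF) hπ
    exact ⟨x, hx⟩
  have hconj : ∀ x : (grp (theta F m)), a x = x → (MulAut.conj g * a) (h * x * h⁻¹) = h * x * h⁻¹ := fun x hx => by
    show g * a (h * x * h⁻¹) * g⁻¹ = _
    rw [map_mul, map_mul, map_inv, hx]
    calc g * (a h * x * (a h)⁻¹) * g⁻¹ = g * a h * x * (g * a h)⁻¹ := by group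
      _ = _ := by rw [hh]
  -- fixed points of the field automorphism
  haveI : Fact (Nat.Prime 2) := ⟨Nat.prime_two⟩
  letI : Algebra (ZMod 2) F := ZMod.algebra F 2
  have hfin : Module.finrank (ZMod 2) F = 2 * m + 1 := by
    have h := Module.card_eq_pow_finrank (K := ZMod 2) (V := F)
    rw [hF, ZMod.card] at h
    exact ((Nat.pow_right_injective le_rfl) h).symm
  have key : ∀ (K : Type) [Field K] [Fintype K] [CharP K 2] (k : ℕ), 1 ≤ k →
      Fintype.card K = 2 ^ (2 * k + 1) → 2 * k + 1 ∣ 2 * m + 1 →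
      ∀ ι : K →+* F, (∀ y, σ (ι y) = ι y) → False := by
    intro K _ _ _ k hk hK hdiv ι hι
    obtain ⟨f, hf, hr⟩ := exists_embedding hm hF hk hK hdiv ι
    have hfix : ∀ z ∈ f.range, a z = z := by
      intro z hz
      rcases (hr z).mp hz with ⟨u, v, t, ⟨u', rfl⟩, ⟨v', rfl⟩, ⟨t', ht⟩, rfl⟩ |
        ⟨u, v, c, e, t, ⟨u', rfl⟩, ⟨v', rfl⟩, ⟨c', rfl⟩, ⟨e', rfl⟩, ⟨t', ht⟩, rfl⟩
      · have hu : σ (t : F) = (t : F) := by rw [← ht]; exact hι t'
        rw [map_mul, fieldAut_uElt, hι, hι, fieldAut_tElt]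
        congr 2
        exact Units.ext hu
      · have hu : σ (t : F) = (t : F) := by rw [← ht]; exact hι t'
        rw [map_mul, map_mul, map_mul, fieldAut_uElt, fieldAut_uElt, hι, hι, hι, hι, fieldAut_wElt,
          fieldAut_tElt]
        congr 3
        exact Units.ext hu
    haveI := hsol (f.range.map (MulAut.conj h).toMonoidHom) (by
      rintro _ ⟨z, hz, rfl⟩
      exact hconj z (hfix z hz))
    let r : grp (theta K k) →* ↥(f.range.map (MulAut.conj h).toMonoidHom) :=
      (((MulAut.conj h).subgroupMap f.range).toMonoidHom).comp f.rangeRestrict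
    have hr : Function.Injective r :=
      ((MulAut.conj h).subgroupMap f.range).injective.comp fun x y hxy => hf (congrArg Subtype.val hxy)
    exact not_isSolvable_grp hk hK (Group.isSolvable_of_isSolvable_injective hr)
  by_cases hσ : σ = RingEquiv.refl F
  · exfalso
    obtain ⟨e⟩ : Nonempty (F ≃+* GaloisField 2 (2 * m + 1)) := by
      haveI : Fintype (GaloisField 2 (2 * m + 1)) := Fintype.ofFinite _
      exact ⟨FiniteField.ringEquivOfCardEq (by
        rw [hF, ← Nat.card_eq_fintype_card, GaloisField.card 2 _ (by omega)])⟩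
    haveI : Fintype (GaloisField 2 (2 * m + 1)) := Fintype.ofFinite _
    exact key _ m hm (by rw [← Nat.card_eq_fintype_card, GaloisField.card 2 _ (by omega)]) dvd_rfl
      e.symm.toRingHom (fun y => by rw [hσ]; rfl)
  let σ' : F ≃ₐ[ZMod 2] F := AlgEquiv.ofRingEquiv (f := σ) fun r =>
    RingHom.congr_fun (RingHom.ext_zmod ((σ : F →+* F).comp (algebraMap (ZMod 2) F)) (algebraMap (ZMod 2) F)) r
  obtain ⟨⟨j, hj⟩, hjσ⟩ := (FiniteField.bijective_frobeniusAlgEquivOfAlgebraic_pow (ZMod 2) F).2 σ'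
  simp only at hjσ
  have hj3 : 2 * m + 1 ∣ j * 3 := by
    have h1 : (σ' : F ≃ₐ[ZMod 2] F) ^ 3 = 1 := AlgEquiv.ext fun x => RingEquiv.congr_fun hσ3 x
    rw [← hjσ, ← pow_mul] at h1
    have := orderOf_dvd_of_pow_eq_one h1
    rwa [FiniteField.orderOf_frobeniusAlgEquivOfAlgebraic, hfin] at this
  have hj0 : j ≠ 0 := fun h0 => hσ (RingEquiv.ext fun x => by
    have := AlgEquiv.congr_fun hjσ x
    rw [h0, pow_zero] at this
    exact this.symm)
  have h3n : 3 ∣ 2 * m + 1 := by
    by_contra hno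
    have := ((Nat.prime_three.coprime_iff_not_dvd.2 hno).symm).dvd_of_dvd_mul_right hj3
    exact hj0 (Nat.eq_zero_of_dvd_of_lt this (hfin ▸ hj))
  obtain ⟨d, hd⟩ := h3n
  obtain ⟨k, hk⟩ : Odd d := (Nat.odd_mul.mp (hd ▸ odd_two_mul_add_one m)).2
  subst hk
  by_contra hm1
  haveI : Fintype (GaloisField 2 (2 * k + 1)) := Fintype.ofFinite _
  letI : Algebra (ZMod 2) (GaloisField 2 (2 * k + 1)) := ZMod.algebra _ 2
  obtain ⟨ι⟩ : Nonempty (GaloisField 2 (2 * k + 1) →ₐ[ZMod 2] F) := by
    rw [FiniteField.nonempty_algHom_iff_finrank_dvd, hfin, hd]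
    have h := GaloisField.finrank 2 (n := 2 * k + 1) (by omega)
    rw [show Module.finrank (ZMod 2) (GaloisField 2 (2 * k + 1)) = 2 * k + 1 by
      convert h using 2
      exact Subsingleton.elim _ _]
    exact dvd_mul_left _ _
  have hcard : Fintype.card (GaloisField 2 (2 * k + 1)) = 2 ^ (2 * k + 1) := by
    rw [← Nat.card_eq_fintype_card, GaloisField.card 2 _ (by omega)]
  refine key _ k (by omega) hcard (hd ▸ dvd_mul_left _ _) ι.toRingHom (fun y => ?_)
  have hdj : 2 * k + 1 ∣ j := by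
    rw [hd, mul_comm j] at hj3
    exact Nat.dvd_of_mul_dvd_mul_left (by norm_num) hj3
  obtain ⟨c, hc⟩ := hdj
  have hy : y ^ 2 ^ (2 * k + 1) = y := by rw [← hcard]; exact FiniteField.pow_card y
  have hyc : ∀ c : ℕ, y ^ 2 ^ ((2 * k + 1) * c) = y := by
    intro c
    induction c with
    | zero => simp
    | succ c ih => rw [Nat.mul_succ, pow_add, pow_mul, ih, hy]
  show σ (ι y) = ι y
  have h1 := AlgEquiv.congr_fun hjσ (ι y)
  refine h1.symm.trans ?_
  rw [AlgEquiv.coe_pow, FiniteField.coe_frobeniusAlgEquivOfAlgebraic, pow_iterate, ZMod.card]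
  show ι y ^ 2 ^ j = ι y
  rw [← map_pow, hc, hyc]

end CfsgLib.SuzukiComp83
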